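import Mathlib
import Cfsg.Agent.Lib.Helper27.OHyp.BlkDefs
import Cfsg.Agent.Lib.Helper59.OHyp.BlkDefs

/-!
# OHYP (S5992), helper27's cut of [BLK]: package [EVENMIX]

`pkgEvenMix_of`: from helper59's packages [FROB], [CYC], [ANN].
-/

set_option autoImplicit false

namespace Cfsg.Agent.Lib.Helper13.OHyp

open Matrix Cfsg.Agent.Lib.Helper23.OHyp

universe u

/-- an invariant subspace is invariant under every polynomial in `x`. -/
theorem aeval_mem_of_inv {F : Type u} [Field F] {ι : Type} [Fintype ι] [DecidableEq ι]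
    (x : Matrix ι ι F) (U : Submodule F (ι → F)) (hU : Inv x U) (g : Polynomial F) :
    ∀ v ∈ U, (Polynomial.aeval x g) *ᵥ v ∈ U := by
  have hx : ∀ v ∈ U, x *ᵥ v ∈ U := by
    intro v hv
    have h1 : Matrix.toLin' x v ∈ U := hU (Submodule.mem_map.2 ⟨v, hv, rfl⟩)
    rwa [Matrix.toLin'_apply] at h1
  induction g using Polynomial.induction_on with
  | C a =>
    intro v hv
    rw [Polynomial.aeval_C, Algebra.algebraMap_eq_smul_one, Matrix.smul_mulVec, Matrix.one_mulVec]
    exact U.smul_mem a hv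
  | add p q hp hq =>
    intro v hv
    rw [map_add, Matrix.add_mulVec]
    exact U.add_mem (hp v hv) (hq v hv)
  | monomial n a ih =>
    intro v hv
    rw [pow_succ, ← mul_assoc, map_mul, Polynomial.aeval_X, ← Matrix.mulVec_mulVec]
    exact ih _ (hx v hv)

/-- **[EVENMIX]** (helper27's cut), from helper59's [FROB], [CYC], [ANN]. -/
theorem pkgEvenMix_of (hF : Cfsg.Agent.Lib.Helper59.OHyp.PkgFrob.{u})
    (hC : Cfsg.Agent.Lib.Helper59.OHyp.PkgCyc.{u}) (hA : Cfsg.Agent.Lib.Helper59.OHyp.PkgAnn.{u}) :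
    Cfsg.Agent.Lib.Helper27.OHyp.PkgEvenMix.{u} := by
  intro F _ _ ι _ _ Q r x hstd hev U U' hU hU' hUU hU'U' hdim hne hinj
  have hB := hstd.nondeg.polar_bilinear
  have hB0 : ∀ v : ι → F, QuadraticMap.polar Q v 0 = 0 := by
    intro v
    have := hB.smul_right 0 v 0
    simpa using this
  have hQiso : ∀ u : ι → F, QuadraticMap.polar Q u u = 0 → Q u = 0 := by
    intro u hu
    have h1 : QuadraticMap.polar Q u u = 2 * Q u := by
      have h2 : Q (u + u) = 4 * Q u := by
        have := hstd.nondeg.smul 2 u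
        rw [two_smul] at this
        rw [this]; ring
      unfold QuadraticMap.polar
      rw [h2]; ring
    rw [h1] at hu
    rcases mul_eq_zero.mp hu with h | h
    · exact absurd h hstd.two
    · exact h
  obtain ⟨g, hg0, hgdeg, hgU⟩ := hA F ι x U hU
  have hfrob := hF F ι Q r x hstd hev
  set N : ℕ := Fintype.card F ^ (ordI (Fintype.card F) r / 2) with hN
  have hNpos : 0 < N := pow_pos Fintype.card_pos _
  obtain ⟨N', hN'⟩ := Nat.exists_eq_succ_of_ne_zero hNpos.ne'
  have hgU' : ∀ v ∈ U', (Polynomial.aeval x g) *ᵥ v = 0 := by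
    intro v hv
    apply hinj _ (aeval_mem_of_inv x U' hU' g v hv)
    intro u hu
    rw [QuadraticMap.polar_comm, hfrob g v u]
    have h0 : ((Polynomial.aeval x g) ^ N) *ᵥ u = 0 := by
      rw [hN', pow_succ, ← Matrix.mulVec_mulVec, hgU u hu, Matrix.mulVec_zero]
    rw [h0, hB0]
  obtain ⟨v, hv, hv0⟩ := Submodule.exists_mem_ne_zero_of_ne_bot hne
  obtain ⟨u, hu, huv⟩ : ∃ u ∈ U, QuadraticMap.polar Q u v ≠ 0 := by
    by_contra hcon
    push Not at hcon
    exact hv0 (hinj v hv hcon)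
  have hQw : Q (u + v) ≠ 0 := by
    have h1 : Q (u + v) = QuadraticMap.polar Q u v + Q u + Q v := by
      unfold QuadraticMap.polar; ring
    rw [h1, hQiso u (hUU u hu u hu), hQiso v (hU'U' v hv v hv), add_zero, add_zero]
    exact huv
  have hgw : (Polynomial.aeval x g) *ᵥ (u + v) = 0 := by
    rw [Matrix.mulVec_add, hgU u hu, hgU' v hv, add_zero]
  obtain ⟨hZinv, hwZ, hZmin, hZdim⟩ := hC F ι x (u + v)
  have hsupinv : Inv x (U ⊔ U') := by
    unfold Cfsg.Agent.Lib.Helper23.OHyp.Inv at *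
    rw [Submodule.map_sup]
    exact sup_le_sup hU hU'
  refine ⟨Cfsg.Agent.Lib.Helper59.OHyp.cycSp x (u + v),
    hZmin (U ⊔ U') hsupinv (Submodule.add_mem_sup hu hv), hZinv, ?_, u + v, hwZ, hQw⟩
  calc Module.finrank F ↥(Cfsg.Agent.Lib.Helper59.OHyp.cycSp x (u + v)) ≤ g.natDegree :=
        hZdim g hg0 hgw
    _ ≤ Module.finrank F U := hgdeg
    _ = ordI (Fintype.card F) r := hdim

end Cfsg.Agent.Lib.Helper13.OHyp
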