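import Mathlib
import Cfsg.Agent.Lib.Helper27.OHyp.BlkDefs
import Cfsg.Agent.Lib.Helper59.OHyp.BlkDefs

/-!
# OHYP (S5992), helper27's cut of [BLK]: package [ODDTS] from helper59's [EVENDIM] and [NOFIX]
-/

set_option autoImplicit false

namespace Cfsg.Agent.Lib.Helper13.OHyp

open Matrix Cfsg.Agent.Lib.Helper23.OHyp

universe u

/-- **[ODDTS]** (helper27's cut), from helper59's [EVENDIM] and [NOFIX]. -/
theorem pkgOddTS_of (hE : Cfsg.Agent.Lib.Helper59.OHyp.PkgEvenDim.{u})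
    (hN : Cfsg.Agent.Lib.Helper59.OHyp.PkgNoFix.{u}) :
    Cfsg.Agent.Lib.Helper27.OHyp.PkgOddTS.{u} := by
  intro F _ _ ι _ _ Q r x hstd U hUm hU hnd hodd
  have hnf : Cfsg.Agent.Lib.Helper59.OHyp.NoFix x U := fun v hv hxv =>
    hN F ι r x hstd.ne hstd.pow v (hUm hv) hxv
  have hev := hE F ι Q r x hstd U hU hnd hnf
  exact (Nat.not_even_iff_odd.mpr hodd) hev

end Cfsg.Agent.Lib.Helper13.OHyp
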